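import Groth.Agent.H25PicSm.Transition
import Groth.Agent.H06FlatCx.HomologyClass
import Groth.Agent.H10Coh.Proper2

/-!
# A first order family of invertible modules without constant directions is bounded by `h¹(O)`
-/

set_option autoImplicit false
set_option linter.style.haveILetI false
set_option linter.unusedSectionVars false
set_option backward.isDefEq.respectTransparency false
set_option maxHeartbeats 2000000
universe u

open CategoryTheory CategoryTheory.Limits AlgebraicGeometry TopologicalSpace Opposite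
open scoped DualNumber

noncomputable section

namespace Groth.Agent.H25PicSm

open Groth.Agent.LeadFF Groth.Agent.H11Tilde Groth.Agent.H7Flat Groth.Agent.H7Flat.LineCocycle
open Groth.Agent.H12Pic.PicCurve.SqZeroPic (gen_inj res_rel isGen_smul isGen_app_iso iso_of_transition)

variable {k : Type u} [Field k] {X : Scheme.{u}} [X.Over (Spec (CommRingCat.of k))]
  {R : Type u} [CommRing R] [Algebra k R] {d : ℕ} (ν : Module.Basis (Option (Fin d)) k R)
  (hν : ν none = 1) (hνm : ∀ s t, ν (some s) * ν (some t) = 0)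
  {XT : Scheme.{u}} {q : XT ⟶ X} {g : XT ⟶ Spec (CommRingCat.of R)}
  (hsq : IsPullback q g (X ↘ Spec (CommRingCat.of k)) (Spec.map (CommRingCat.ofHom (algebraMap k R))))

/-- The linear map of a tangent direction. -/
def dirLin (μ : Fin d → k) : R →ₗ[k] k[ε] := ν.constr k fun t => t.elim 1 fun j => μ j • ε

theorem dirLin_some (μ : Fin d → k) (t : Fin d) : dirLin ν μ (ν (some t)) = μ t • ε := by
  rw [dirLin, Module.Basis.constr_basis]
  rfl

include hν in
theorem dirLin_one (μ : Fin d → k) : dirLin ν μ 1 = 1 := by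
  rw [← hν, dirLin, Module.Basis.constr_basis]
  rfl

include hν hνm in
theorem dirLin_mul (μ : Fin d → k) : ∀ x y : R, dirLin ν μ (x * y) = dirLin ν μ x * dirLin ν μ y := by
  have h : (LinearMap.mul k R).compr₂ (dirLin ν μ) =
      (LinearMap.mul k k[ε]).compl₁₂ (dirLin ν μ) (dirLin ν μ) := by
    refine ν.ext fun s => ν.ext fun t => ?_
    simp only [LinearMap.compr₂_apply, LinearMap.compl₁₂_apply, LinearMap.mul_apply']
    rcases s with _ | s
    · rw [hν, _root_.one_mul, dirLin_one ν hν, _root_.one_mul]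
    rcases t with _ | t
    · rw [hν, _root_.mul_one, dirLin_one ν hν, _root_.mul_one]
    rw [hνm, map_zero, dirLin_some, dirLin_some, smul_mul_smul_comm, DualNumber.eps_mul_eps, smul_zero]
  exact fun x y => LinearMap.congr_fun₂ h x y

/-- The ring map of a tangent direction. -/
def dir (μ : Fin d → k) (hν : ν none = 1) (hνm : ∀ s t, ν (some s) * ν (some t) = 0) : R →ₐ[k] k[ε] :=
  AlgHom.ofLinearMap (dirLin ν μ) (dirLin_one ν hν μ) (dirLin_mul ν hν hνm μ)

include hsq

/-- A direction with coboundary cochain gives a trivial module. -/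
theorem trivial_of_coboundary (μ : Fin d → k) {XD : Scheme.{u}} {j : XD ⟶ XT}
    {gD : XD ⟶ Spec (CommRingCat.of k[ε])}
    (hj : IsPullback j gD g (Spec.map (CommRingCat.ofHom (dir ν μ hν hνm).toRingHom)))
    (M : XT.Modules) {ι : Type u} (U : ι → X.Opens) (hG : LeadBC.GoodCover U)
    (e : ∀ a, Γ(M, q ⁻¹ᵁ U a)) (he : ∀ a, IsGen M (e a))
    (A : Fin d → LeadBC.Kp k U (Coh.structureModule X) 1)
    (htr : ∀ (a b : ι) (T : X.Opens) (ha : T ≤ U a) (hb : T ≤ U b),
        M.presheaf.map (homOfLE (q.preimage_mono hb)).op (e b) =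
          lin ν (q := q) (g := g) (fun t => rr (show T ≤ H15Site.CechTop.cap U ![a, b] from
              le_iInf (Fin.forall_fin_two.2 ⟨ha, hb⟩)) (A t ![a, b] : Γ(X, H15Site.CechTop.cap U ![a, b]))) •
            M.presheaf.map (homOfLE (q.preimage_mono ha)).op (e a))
    (b : LeadBC.Kp k U (Coh.structureModule X) 0)
    (hb : LeadBC.dK k U (Coh.structureModule X) 0 b = ∑ t, μ t • A t) :
    Nonempty ((Scheme.Modules.pullback j).obj M ≅ Coh.structureModule XD) := by
  classical
  have hle1 : ∀ a : ι, U a ≤ H15Site.CechTop.cap U (fun _ : Fin 1 => a) := fun a => le_iInf fun _ => le_rfl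
  let bb : ∀ a, Γ(X, U a) := fun a => rr (hle1 a) (b fun _ => a : Γ(X, H15Site.CechTop.cap U fun _ : Fin 1 => a))
  have hbb : ∀ (u : Fin 1 → ι) (T : X.Opens) (h : T ≤ H15Site.CechTop.cap U u),
      rr h (b u : Γ(X, H15Site.CechTop.cap U u)) = rr (h.trans (iInf_le (fun l => U (u l)) 0)) (bb (u 0)) := by
    intro u
    have hu : u = fun _ => u 0 := funext fun l => by rw [Subsingleton.elim l 0]
    rw [hu]
    intro T h
    exact (rr_rr _ _ _).symm
  -- the coboundary relation on an overlap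
  have hcob : ∀ (a c : ι) (T : X.Opens) (ha : T ≤ U a) (hc : T ≤ U c),
      (∑ t, scal (X ↘ Spec (CommRingCat.of k)) T (μ t) * rr (show T ≤ H15Site.CechTop.cap U ![a, c] from
          le_iInf (Fin.forall_fin_two.2 ⟨ha, hc⟩)) (A t ![a, c] : Γ(X, H15Site.CechTop.cap U ![a, c]))) =
        rr hc (bb c) - rr ha (bb a) := by
    intro a c T ha hc
    have hT : T ≤ H15Site.CechTop.cap U ![a, c] := le_iInf (Fin.forall_fin_two.2 ⟨ha, hc⟩)
    have h1 := congrArg (fun z : LeadBC.Kp k U (Coh.structureModule X) 1 =>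
      rr hT (z ![a, c] : Γ(X, H15Site.CechTop.cap U ![a, c]))) hb
    rw [LeadBC.dK_apply, Fin.sum_univ_two, Finset.sum_apply] at h1
    change rr hT (((-1 : ℤ) ^ (0 : ℕ)) • (rr (H15Site.CechTop.cap_comp_le U ![a, c] (Fin.succAbove 0))
          (b (![a, c] ∘ Fin.succAbove 0)) : Γ(X, H15Site.CechTop.cap U ![a, c])) +
        ((-1 : ℤ) ^ (1 : ℕ)) • rr (H15Site.CechTop.cap_comp_le U ![a, c] (Fin.succAbove 1))
          (b (![a, c] ∘ Fin.succAbove 1))) =
      rr hT (∑ t, scal (X ↘ Spec (CommRingCat.of k)) (H15Site.CechTop.cap U ![a, c]) (μ t) *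
        (show Γ(X, H15Site.CechTop.cap U ![a, c]) from A t ![a, c])) at h1
    rw [map_add, map_zsmul, map_zsmul, rr_rr, rr_rr, hbb, hbb, map_sum] at h1
    simp only [pow_zero, pow_one, one_smul, neg_smul, map_mul, ← sub_eq_add_neg] at h1
    refine Eq.trans ?_ h1.symm
    exact Finset.sum_congr rfl fun t _ => congrArg (· * _)
      (map_scal (X ↘ Spec (CommRingCat.of k)) hT (μ t)).symm
  have hsqD : IsPullback (j ≫ q) gD (X ↘ Spec (CommRingCat.of k))
      (Spec.map (CommRingCat.ofHom (algebraMap k k[ε]))) := by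
    have h := hj.paste_horiz hsq
    rwa [← Spec.map_comp, ← CommRingCat.ofHom_comp, show (dir ν μ hν hνm).toRingHom.comp (algebraMap k R) =
      algebraMap k k[ε] from RingHom.ext fun c => (dir ν μ hν hνm).commutes c] at h
  let E : ∀ V : XD.Opens, Γ(XD, V) := fun V => scal gD V ε
  have hE2 : ∀ V, E V * E V = 0 := fun V => by
    show scal gD V ε * scal gD V ε = 0
    rw [← map_mul, DualNumber.eps_mul_eps, map_zero]
  let P : ∀ T : X.Opens, Γ(X, T) →+* Γ(XD, j ⁻¹ᵁ (q ⁻¹ᵁ T)) := fun T => (q.app T ≫ j.app (q ⁻¹ᵁ T)).hom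
  have hP : ∀ (T : X.Opens) (r : k), P T (scal (X ↘ Spec (CommRingCat.of k)) T r) =
      scal gD (j ⁻¹ᵁ (q ⁻¹ᵁ T)) (algebraMap k k[ε] r) := fun T r => app_scal hsqD T r
  have hPres : ∀ {S T : X.Opens} (h : T ≤ S) (x : Γ(X, S)),
      rr (j.preimage_mono (q.preimage_mono h)) (P S x) = P T (rr h x) := fun {S T} h x => by
    refine Eq.trans ?_ (congrArg (j.app (q ⁻¹ᵁ T)) (app_res hsq h x))
    exact (ConcreteCategory.congr_hom (j.naturality (homOfLE (q.preimage_mono h)).op) (q.app S x)).symm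
  have hpoly : ∀ {T : X.Opens} (x y : Γ(X, T)),
      (1 - P T x * E (j ⁻¹ᵁ (q ⁻¹ᵁ T))) * (1 + P T y * E (j ⁻¹ᵁ (q ⁻¹ᵁ T))) =
        1 - P T (x - y) * E (j ⁻¹ᵁ (q ⁻¹ᵁ T)) := fun {T} x y => by
    rw [map_sub]
    linear_combination (-(P T x) * P T y) * hE2 (j ⁻¹ᵁ (q ⁻¹ᵁ T))
  have hjlin : ∀ {T : X.Opens} (x : Fin d → Γ(X, T)), j.app (q ⁻¹ᵁ T) (lin ν (q := q) (g := g) x) =
      1 + P T (∑ t, scal (X ↘ Spec (CommRingCat.of k)) T (μ t) * x t) * E (j ⁻¹ᵁ (q ⁻¹ᵁ T)) := by
    intro T x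
    show j.app (q ⁻¹ᵁ T) (1 + ∑ t, q.app T (x t) * scal g (q ⁻¹ᵁ T) (ν (some t))) = _
    rw [map_add, map_one, map_sum, map_sum, Finset.sum_mul]
    congr 1
    refine Finset.sum_congr rfl fun t _ => ?_
    rw [map_mul, app_scal hj, show (dir ν μ hν hνm).toRingHom (ν (some t)) = μ t • ε from dirLin_some ν μ t,
      Algebra.smul_def, map_mul, map_mul (P T), hP]
    show P T (x t) * (_ * _) = _
    rw [mul_left_comm, ← _root_.mul_assoc]
  let w : ∀ a, Γ(XD, j ⁻¹ᵁ (q ⁻¹ᵁ U a)) := fun a => 1 - P (U a) (bb a) * E _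
  have hw : ∀ a, IsUnit (w a) := fun a => IsUnit.of_mul_eq_one (1 + P (U a) (bb a) * E _) (by
    show (1 - _ * _) * _ = _
    rw [hpoly, sub_self, map_zero, zero_mul, sub_zero])
  refine iso_of_transition (fun a => j ⁻¹ᵁ (q ⁻¹ᵁ U a)) (fun x => ?_)
    (fun a => w a • OmegaSh.pullSect j M (q ⁻¹ᵁ U a) (e a))
    (fun a => isGen_smul ((he a).pullSect j) (hw a)) (fun a => H11Ample.one _) (fun a => H11Ample.isGen_one _)
    fun a c => ⟨1, ?_, ?_⟩
  · obtain ⟨a, ha⟩ := Opens.mem_iSup.1 (hG.cover (Opens.mem_top (q (j x))))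
    exact ⟨a, ha⟩
  swap
  · rw [one_smul, H11Ample.one_res, H11Ample.one_res]
  rw [one_smul]
  have h2 := congrArg (OmegaSh.pullSect j M (q ⁻¹ᵁ (U a ⊓ U c))) (htr a c (U a ⊓ U c) inf_le_left inf_le_right)
  rw [OmegaSh.pullSect_smul, OmegaSh.pullSect_map, OmegaSh.pullSect_map] at h2
  have hwT : ∀ (x : ι) (h : U a ⊓ U c ≤ U x), rr (j.preimage_mono (q.preimage_mono h)) (w x) =
      1 - P (U a ⊓ U c) (rr h (bb x)) * E _ := fun x h => by
    show rr _ (1 - _ * _) = _
    rw [map_sub, map_one, map_mul, hPres h]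
    congr 2
    exact map_scal gD _ ε
  show ((Scheme.Modules.pullback j).obj M).presheaf.map (homOfLE (j.preimage_mono (q.preimage_mono
      (inf_le_left : U a ⊓ U c ≤ U a)))).op (w a • _) =
    ((Scheme.Modules.pullback j).obj M).presheaf.map (homOfLE (j.preimage_mono (q.preimage_mono
      (inf_le_right : U a ⊓ U c ≤ U c)))).op (w c • _)
  rw [Scheme.Modules.map_smul, Scheme.Modules.map_smul]
  change rr _ (w a) • _ = rr _ (w c) • _
  refine Eq.trans ?_ (congrArg (rr (j.preimage_mono (q.preimage_mono (inf_le_right : U a ⊓ U c ≤ U c))) (w c) • ·) h2).symm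
  rw [smul_smul, hwT a inf_le_left, hwT c inf_le_right, hjlin, hcob a c (U a ⊓ U c) inf_le_left inf_le_right, hpoly, sub_sub_cancel]

/-- A first order family all of whose directions move is no larger than `h¹(O)`. -/
theorem le_finrank_h1 [IsProper (X ↘ Spec (CommRingCat.of k))] (ε0 : R →ₐ[k] k) (hε : ∀ t, ε0 (ν (some t)) = 0)
    {i : X ⟶ XT} (hi : i ≫ q = 𝟙 X)
    (hig : i ≫ g = (X ↘ Spec (CommRingCat.of k)) ≫ Spec.map (CommRingCat.ofHom ε0.toRingHom))
    (his : Function.Surjective i.base) (M : XT.Modules) (hM : PicF.IsInvertible M)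
    (τ : (Scheme.Modules.pullback i).obj M ≅ Coh.structureModule X)
    (hnt : ∀ μ : Fin d → k, (∀ (XD : Scheme.{u}) (j : XD ⟶ XT) (gD : XD ⟶ Spec (CommRingCat.of k[ε])),
        IsPullback j gD g (Spec.map (CommRingCat.ofHom (dir ν μ hν hνm).toRingHom)) →
        Nonempty ((Scheme.Modules.pullback j).obj M ≅ Coh.structureModule XD)) → μ = 0) :
    d ≤ Module.finrank k (Coh.HH X (Coh.structureModule X) 1) := by
  classical
  haveI : CompactSpace X := QuasiCompact.compactSpace_of_compactSpace (X ↘ Spec (CommRingCat.of k))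
  haveI : IsLocallyNoetherian X := LocallyOfFiniteType.isLocallyNoetherian (X ↘ Spec (CommRingCat.of k))
  obtain ⟨ι, U, hG, e, A, he, htr, hA⟩ := exists_transitions ν hν hνm ε0 hε hsq hi hig his M hM τ
  have hO := H11Ample.isCoh_of_isInvertible (H11Ample.isInvertible_structureModule (X := X))
  haveI : (Coh.structureModule X).IsQuasicoherent := hO.1
  let K := LeadBC.KC k U (Coh.structureModule X)
  have hnext : (ComplexShape.up ℕ).next 1 = 2 := CochainComplex.next ℕ 1
  have hprev : (ComplexShape.up ℕ).prev 1 = 0 := CochainComplex.prev_nat_succ 0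
  have hcyc : ∀ t, A t ∈ LinearMap.ker (K.d 1 2).hom := fun t => by
    rw [LinearMap.mem_ker, LeadBC.KC_d]
    exact hA t
  let z : Fin d → Coh.HH X (Coh.structureModule X) 1 := fun t =>
    LeadBC.eHH k hG (Coh.structureModule X) 1 (H06FlatCx.cls K hnext ⟨A t, hcyc t⟩)
  haveI : Module.Finite k (Coh.HH X (Coh.structureModule X) 1) := H10Coh.finite_HH_proper k X _ hO 1
  suffices hli : LinearIndependent k z by
    simpa using hli.fintype_card_le_finrank
  rw [Fintype.linearIndependent_iff]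
  intro μ hμ
  refine congrFun (hnt μ fun XD j gD hj => ?_)
  let y : LinearMap.ker (K.d 1 2).hom := ∑ t, μ t • ⟨A t, hcyc t⟩
  have hy0 : H06FlatCx.cls K hnext y = 0 := by
    refine (LeadBC.eHH k hG (Coh.structureModule X) 1).injective ?_
    rw [map_zero, ← hμ, map_sum, map_sum]
    exact Finset.sum_congr rfl fun t _ => by rw [map_smul, map_smul]
  obtain ⟨b, hb⟩ := (H06FlatCx.cls_eq_zero_iff K hprev hnext y).1 hy0
  rw [LeadBC.KC_d] at hb
  refine trivial_of_coboundary ν hν hνm hsq μ hj M U hG e he A htr b (hb.trans ?_)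
  show ((∑ t, μ t • (⟨A t, hcyc t⟩ : LinearMap.ker (K.d 1 2).hom) : LinearMap.ker (K.d 1 2).hom) : K.X 1) = _
  rw [Submodule.coe_sum]
  rfl

end Groth.Agent.H25PicSm
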