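import Groth.Agent.LeadFF.BaseChange
import Groth.Agent.H11Ample.Basic
import Mathlib.RingTheory.IsTensorProduct
import Mathlib.Algebra.DualNumber

/-!
# Sections on a base change of a scheme over a field to an algebra with a basis
-/

set_option autoImplicit false
set_option linter.style.haveILetI false
set_option linter.unusedSectionVars false
set_option backward.isDefEq.respectTransparency false
universe u

open CategoryTheory CategoryTheory.Limits AlgebraicGeometry TopologicalSpace Opposite
open scoped TensorProduct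

noncomputable section

namespace Groth.Agent.H25PicSm

open Groth.Agent.LeadFF Groth.Agent.H11Tilde

variable {k : Type u} [Field k] {X : Scheme.{u}} {f : X ⟶ Spec (CommRingCat.of k)}
  {R : Type u} [CommRing R] [Algebra k R] {XT : Scheme.{u}} {q : XT ⟶ X} {g : XT ⟶ Spec (CommRingCat.of R)}
  (hsq : IsPullback q g f (Spec.map (CommRingCat.ofHom (algebraMap k R))))
  {ι : Type*} [Fintype ι] (ν : Module.Basis ι k R)

include hsq

/-- Sections over the preimage of an affine open have unique coefficients. -/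
theorem existsUnique_coeff {U : X.Opens} (hU : IsAffineOpen U) (c : Γ(XT, q ⁻¹ᵁ U)) :
    ∃! a : ι → Γ(X, U), c = ∑ t, q.app U (a t) * scal g (q ⁻¹ᵁ U) (ν t) := by
  classical
  let B := Γ(X, U)
  let B' := Γ(XT, q ⁻¹ᵁ U)
  letI : Algebra k B := (scal f U).toAlgebra
  letI : Algebra B B' := (q.app U).hom.toAlgebra
  letI : Algebra R B' := (scal g (q ⁻¹ᵁ U)).toAlgebra
  letI : Algebra k B' := ((scal g (q ⁻¹ᵁ U)).comp (algebraMap k R)).toAlgebra
  haveI : IsScalarTower k B B' := .of_algebraMap_eq fun a => (app_scal hsq U a).symm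
  haveI : IsScalarTower k R B' := .of_algebraMap_eq fun _ => rfl
  haveI : Algebra.IsPushout k B R B' :=
    CommRingCat.isPushout_iff_isPushout.mp (by simpa using! isPushout_scal hsq hU)
  let b : Module.Basis ι B B' :=
    (Algebra.TensorProduct.basis B ν).map (Algebra.IsPushout.equiv k B R B').toLinearEquiv
  have hb : ∀ t, b t = scal g (q ⁻¹ᵁ U) (ν t) := fun t => by
    show Algebra.IsPushout.equiv k B R B' ((Algebra.TensorProduct.basis B ν) t) = _
    rw [Algebra.TensorProduct.basis_apply, Algebra.IsPushout.equiv_tmul, map_one, _root_.one_mul]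
    rfl
  have hsum : ∀ a : ι → B, ∑ t, q.app U (a t) * scal g (q ⁻¹ᵁ U) (ν t) = b.equivFun.symm a := fun a => by
    rw [Module.Basis.equivFun_symm_apply]
    exact Finset.sum_congr rfl fun t _ => by rw [hb, Algebra.smul_def]; rfl
  refine ⟨b.equivFun c, by beta_reduce; rw [hsum, LinearEquiv.symm_apply_apply], fun a ha => ?_⟩
  rw [ha, hsum, LinearEquiv.apply_symm_apply]

/-- The coefficients. -/
def coef {U : X.Opens} (hU : IsAffineOpen U) (c : Γ(XT, q ⁻¹ᵁ U)) : ι → Γ(X, U) :=
  (existsUnique_coeff hsq ν hU c).exists.choose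

theorem coef_spec {U : X.Opens} (hU : IsAffineOpen U) (c : Γ(XT, q ⁻¹ᵁ U)) :
    c = ∑ t, q.app U (coef hsq ν hU c t) * scal g (q ⁻¹ᵁ U) (ν t) :=
  (existsUnique_coeff hsq ν hU c).exists.choose_spec

theorem coef_eq {U : X.Opens} (hU : IsAffineOpen U) (c : Γ(XT, q ⁻¹ᵁ U)) (a : ι → Γ(X, U))
    (h : c = ∑ t, q.app U (a t) * scal g (q ⁻¹ᵁ U) (ν t)) : coef hsq ν hU c = a :=
  (existsUnique_coeff hsq ν hU c).unique (coef_spec hsq ν hU c) h

theorem app_res {U V : X.Opens} (h : V ≤ U) (a : Γ(X, U)) :
    XT.presheaf.map (homOfLE (q.preimage_mono h)).op (q.app U a) = q.app V (X.presheaf.map (homOfLE h).op a) :=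
  (ConcreteCategory.congr_hom (q.naturality (homOfLE h).op) a).symm

theorem coef_res {U V : X.Opens} (hU : IsAffineOpen U) (hV : IsAffineOpen V) (h : V ≤ U)
    (c : Γ(XT, q ⁻¹ᵁ U)) (t : ι) :
    coef hsq ν hV (XT.presheaf.map (homOfLE (q.preimage_mono h)).op c) t =
      X.presheaf.map (homOfLE h).op (coef hsq ν hU c t) := by
  refine congrFun (coef_eq hsq ν hV _ (fun t => X.presheaf.map (homOfLE h).op (coef hsq ν hU c t)) ?_) t
  conv_lhs => rw [coef_spec hsq ν hU c]
  rw [map_sum]
  exact Finset.sum_congr rfl fun s _ => by rw [map_mul, app_res hsq h, map_scal]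

end Groth.Agent.H25PicSm
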