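import Groth.Agent.H25PicSm.Bound
import Groth.Agent.H12Pic.RigPoints

/-!
# The tangent space of a Picard scheme at the origin is bounded by `h¹(O)`
-/

set_option autoImplicit false
set_option linter.style.haveILetI false
set_option linter.unusedSectionVars false
set_option backward.isDefEq.respectTransparency false
set_option maxHeartbeats 2000000
universe u

open CategoryTheory CategoryTheory.Limits AlgebraicGeometry TopologicalSpace Opposite IsLocalRing
open scoped DualNumber

noncomputable section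

namespace Groth.Agent.H25PicSm

open Groth.Agent.H17.PullCl Groth.Agent.H12Pic.RigPoints

variable {k : Type u} [Field k] (X : Scheme.{u}) [X.Over (Spec (CommRingCat.of k))]
  [IsProper (X ↘ Spec (CommRingCat.of k))] {σ : Spec (CommRingCat.of k) ⟶ X}
  (hσ : σ ≫ (X ↘ Spec (CommRingCat.of k)) = 𝟙 _)
  (ha : ∀ (T : Over (Spec (CommRingCat.of k))) (U : T.left.Opens),
    IsIso ((PicF.XTproj (X ↘ Spec (CommRingCat.of k)) T).app U))
  (P : Over (Spec (CommRingCat.of k))) [LocallyOfFiniteType P.hom]
  {φ : ∀ T : Over (Spec (CommRingCat.of k)), PicF.Cl (PicF.XT (X ↘ Spec (CommRingCat.of k)) T) → (T ⟶ P)}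
  (hP : AbDual.IsRelPicK Scheme.fppfPrecoverage (X ↘ Spec (CommRingCat.of k)) P φ)

/-- The point of the trivial class. -/
abbrev trivialPt : Over.mk (𝟙 (Spec (CommRingCat.of k))) ⟶ P :=
  φ (Over.mk (𝟙 (Spec (CommRingCat.of k))))
    (PicF.cl (Coh.structureModule (PicF.XT (X ↘ Spec (CommRingCat.of k)) (Over.mk (𝟙 (Spec (CommRingCat.of k)))))))

include hσ ha hP

/-- The cotangent space at the origin has dimension at most `h¹(O)`. -/
theorem finrank_cotangent_le :
    Module.finrank (ResidueField (P.left.presheaf.stalk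
        ((trivialPt X P (φ := φ)).left (closedPoint k))))
      (CotangentSpace (P.left.presheaf.stalk ((trivialPt X P (φ := φ)).left (closedPoint k)))) ≤
      Module.finrank k (Coh.HH X (Coh.structureModule X) 1) := by
  classical
  let f := X ↘ Spec (CommRingCat.of k)
  let T₀ : Over (Spec (CommRingCat.of k)) := Over.mk (𝟙 (Spec (CommRingCat.of k)))
  let e' := trivialPt X P (φ := φ)
  let p : P.left := e'.left (closedPoint k)
  let O := P.left.presheaf.stalk p
  haveI : IsLocallyNoetherian P.left := LocallyOfFiniteType.isLocallyNoetherian P.hom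
  let s : CommRingCat.of k ⟶ O := Spec.preimage (P.left.fromSpecStalk p ≫ P.hom)
  have hs : Spec.map s = P.left.fromSpecStalk p ≫ P.hom := Spec.map_preimage _
  let ψ : O ⟶ CommRingCat.of k := Scheme.stalkClosedPointTo e'.left
  have hψ : Spec.map ψ ≫ P.left.fromSpecStalk p = e'.left := Scheme.Spec_stalkClosedPointTo_fromSpecStalk e'.left
  have hsψ : s ≫ ψ = 𝟙 _ := Spec.map_injective (by
    rw [Spec.map_comp, hs, reassoc_of% hψ, Over.w e', Spec.map_id]
    rfl)
  letI : Algebra k O := s.hom.toAlgebra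
  have hsec : ∀ c : k, ψ.hom (algebraMap k O c) = c := fun c => congr($(congrArg CommRingCat.Hom.hom hsψ) c)
  have hker : RingHom.ker ψ.hom = maximalIdeal O :=
    eq_maximalIdeal (RingHom.ker_isMaximal_of_surjective ψ.hom fun c => ⟨_, hsec c⟩)
  let m := maximalIdeal O
  let R : Type u := O ⧸ m ^ 2
  let π : O →ₐ[k] R := Ideal.Quotient.mkₐ k (m ^ 2)
  let ε0 : R →ₐ[k] k :=
    Ideal.Quotient.liftₐ (m ^ 2) (⟨ψ.hom, hsec⟩ : O →ₐ[k] k) fun a ha' =>
      RingHom.mem_ker.1 (hker.ge (Ideal.pow_le_self two_ne_zero ha'))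
  have hε0 : ∀ a : O, ε0 (π a) = ψ.hom a := fun a => rfl
  have hsub : ∀ a : O, a - algebraMap k O (ψ.hom a) ∈ m := fun a => hker.le (by
    rw [RingHom.mem_ker, map_sub, hsec, sub_self])
  let d := Module.finrank (ResidueField O) (CotangentSpace O)
  let b := Module.finBasis (ResidueField O) (CotangentSpace O)
  choose mt hmt using fun t => Ideal.toCotangent_surjective m (b t)
  let v : Option (Fin d) → R := fun t => t.elim 1 fun j => π (mt j : O)
  have hspan : ⊤ ≤ Submodule.span k (Set.range v) := by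
    rintro r -
    obtain ⟨a, rfl⟩ := Ideal.Quotient.mk_surjective r
    have hrepr := b.sum_repr (Ideal.toCotangent m ⟨_, hsub a⟩)
    choose c hc using fun t => IsLocalRing.residue_surjective
      (b.repr (Ideal.toCotangent m ⟨_, hsub a⟩) t)
    have h2 : a - algebraMap k O (ψ.hom a) - ∑ t, c t * (mt t : O) ∈ m ^ 2 := by
      have h3 : Ideal.toCotangent m (⟨_, hsub a⟩ - ∑ t, c t • mt t) = 0 := by
        rw [map_sub, map_sum, sub_eq_zero, ← hrepr]
        refine Finset.sum_congr rfl fun t _ => ?_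
        rw [map_smul, hmt, ← hc t]
        rfl
      rw [Ideal.toCotangent_eq_zero] at h3
      simpa [Submodule.coe_sum] using h3
    have h4 : ∀ t, c t * (mt t : O) - algebraMap k O (ψ.hom (c t)) * (mt t : O) ∈ m ^ 2 := fun t => by
      rw [← sub_mul, sq]
      exact Ideal.mul_mem_mul (hsub (c t)) (mt t).2
    have h5 : π a = π (algebraMap k O (ψ.hom a) + ∑ t, algebraMap k O (ψ.hom (c t)) * (mt t : O)) := by
      refine Ideal.Quotient.eq.2 ?_
      have := Ideal.add_mem _ h2 (Ideal.sum_mem (t := Finset.univ) _ fun t _ => h4 t)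
      rw [Finset.sum_sub_distrib] at this
      convert this using 1
      abel
    show π a ∈ _
    rw [h5, map_add, map_sum, AlgHom.commutes, Algebra.algebraMap_eq_smul_one]
    refine Submodule.add_mem _ (Submodule.smul_mem _ _ (Submodule.subset_span ⟨none, rfl⟩))
      (Submodule.sum_mem _ fun t _ => ?_)
    rw [map_mul, AlgHom.commutes, ← Algebra.smul_def]
    exact Submodule.smul_mem _ _ (Submodule.subset_span ⟨some t, rfl⟩)
  have hε : ∀ t, ε0 (v (some t)) = 0 := fun t => (hε0 _).trans (RingHom.mem_ker.1 (hker.ge (mt t).2))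
  have hli : LinearIndependent k v := by
    rw [Fintype.linearIndependent_iff]
    intro c hc
    rw [Fintype.sum_option] at hc
    have h0 : c none = 0 := by
      have := congrArg ε0 hc
      rw [map_add, map_sum, map_smul, map_zero, Finset.sum_eq_zero fun t _ => by rw [map_smul, hε, smul_zero],
        add_zero, show v none = 1 from rfl, map_one, smul_eq_mul, _root_.mul_one] at this
      exact this
    rw [h0, zero_smul, zero_add] at hc
    have h1 : (∑ t, algebraMap k O (c (some t)) * (mt t : O)) ∈ m ^ 2 := by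
      refine Ideal.Quotient.eq_zero_iff_mem.1 ?_
      show π _ = 0
      rw [← hc, map_sum]
      exact Finset.sum_congr rfl fun t _ => by rw [map_mul, AlgHom.commutes, ← Algebra.smul_def]; rfl
    have h2 : ∑ t, residue O (algebraMap k O (c (some t))) • b t = 0 := by
      have h3 : Ideal.toCotangent m (∑ t, algebraMap k O (c (some t)) • mt t) = 0 := by
        rw [Ideal.toCotangent_eq_zero]
        simpa [Submodule.coe_sum, Algebra.smul_def] using h1
      rw [map_sum] at h3
      refine Eq.trans (Finset.sum_congr rfl fun t _ => ?_) h3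
      rw [map_smul, hmt]
      rfl
    intro t
    rcases t with _ | t
    · exact h0
    have h4 := Fintype.linearIndependent_iff.1 b.linearIndependent _ h2 t
    rw [residue_eq_zero_iff] at h4
    have h5 := RingHom.mem_ker.1 (hker.ge h4)
    rwa [hsec] at h5
  let ν : Module.Basis (Option (Fin d)) k R := Module.Basis.mk hli hspan
  have hνv : ∀ t, ν t = v t := fun t => Module.Basis.mk_apply hli hspan t
  have hν : ν none = 1 := hνv none
  have hνm : ∀ s t, ν (some s) * ν (some t) = 0 := fun s' t => by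
    rw [hνv, hνv]
    show π (mt s' : O) * π (mt t : O) = 0
    rw [← map_mul]
    refine Ideal.Quotient.eq_zero_iff_mem.2 ?_
    rw [sq]
    exact Ideal.mul_mem_mul (mt s').2 (mt t).2
  let ρ : O ⟶ CommRingCat.of R := CommRingCat.ofHom π.toRingHom
  let T : Over (Spec (CommRingCat.of k)) := Over.mk (Spec.map (CommRingCat.ofHom (algebraMap k R)))
  let u : T ⟶ P := Over.homMk (Spec.map ρ ≫ P.left.fromSpecStalk p) (by
    rw [Category.assoc, ← hs, ← Spec.map_comp]
    exact congrArg Spec.map (CommRingCat.hom_ext (RingHom.ext fun c => π.commutes c)))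
  obtain ⟨cu, hcu⟩ := point_surjective f hσ P hP ha T u
  obtain ⟨M, hMc, hM⟩ := cu.2.1
  have htriv : ∀ {Y : Over (Spec (CommRingCat.of k))} (h : Y ⟶ T), h ≫ u = Over.homMk Y.hom ≫ e' →
      Nonempty ((Scheme.Modules.pullback (PicF.XTmap f h)).obj M ≅ Coh.structureModule (PicF.XT f Y)) := by
    intro Y h hh
    let one : ∀ Z : Over (Spec (CommRingCat.of k)), PicF.Rig f σ hσ Z := fun Z =>
      ⟨PicF.cl (Coh.structureModule (PicF.XT f Z)), ⟨_, rfl, H11Ample.isInvertible_structureModule⟩,
        Quot.sound ⟨PicLoc.pullbackStructureIso _⟩⟩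
    have h1 : φ Y (rigPull f hσ h cu).1 = φ Y (rigPull f hσ (Over.homMk Y.hom : Y ⟶ T₀) (one T₀)).1 := by
      refine (hP.natural T Y h cu.1 cu.2.1).trans ((congrArg (h ≫ ·) hcu).trans (hh.trans ?_))
      exact (hP.natural T₀ Y (Over.homMk Y.hom) _ (one T₀).2.1).symm
    have h2 := congrArg Subtype.val (point_injective f hσ P hP ha Y _ _ h1)
    change PicF.pullCl (PicF.XTmap f h) cu.1 = PicF.pullCl _ (PicF.cl (Coh.structureModule _)) at h2
    rw [← hMc] at h2
    exact H12Pic.Sep.iso_of_cl_eq (h2.trans (Quot.sound ⟨PicLoc.pullbackStructureIso _⟩))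
  let sec : T₀ ⟶ T := Over.homMk (Spec.map (CommRingCat.ofHom ε0.toRingHom)) (by
    show Spec.map _ ≫ Spec.map _ = 𝟙 _
    rw [← Spec.map_comp, ← Spec.map_id]
    exact congrArg Spec.map (CommRingCat.hom_ext (RingHom.ext fun c => ε0.commutes c)))
  have hsec' : sec ≫ u = Over.homMk T₀.hom ≫ e' := Over.OverMorphism.ext (by
    show Spec.map _ ≫ Spec.map ρ ≫ P.left.fromSpecStalk p = 𝟙 _ ≫ e'.left
    rw [Category.id_comp, ← Category.assoc, ← Spec.map_comp]
    exact hψ)
  obtain ⟨τ₀⟩ := htriv sec hsec'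
  let z : X ⟶ PicF.XT f T₀ := pullback.lift (𝟙 X) f (by
    show 𝟙 X ≫ f = f ≫ 𝟙 _
    rw [Category.id_comp, Category.comp_id])
  let i : X ⟶ PicF.XT f T := z ≫ PicF.XTmap f sec
  have hi : i ≫ pullback.fst f T.hom = 𝟙 X := by
    show (z ≫ PicF.XTmap f sec) ≫ pullback.fst f T.hom = 𝟙 X
    rw [Category.assoc, XTmap_fst]
    exact pullback.lift_fst _ _ _
  have hig : i ≫ pullback.snd f T.hom = f ≫ Spec.map (CommRingCat.ofHom ε0.toRingHom) := by
    show (z ≫ PicF.XTmap f sec) ≫ pullback.snd f T.hom = _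
    rw [Category.assoc, XTmap_snd, ← Category.assoc, pullback.lift_snd]
    rfl
  have his : Function.Surjective i.base := by
    haveI : Surjective (Spec.map (CommRingCat.ofHom ε0.toRingHom)) := ⟨fun x => ⟨closedPoint k, by
      have hx : ∀ y : PrimeSpectrum R, y.asIdeal = RingHom.ker ε0.toRingHom := by
        intro y
        refine ((RingHom.ker_isMaximal_of_surjective ε0.toRingHom fun c => ⟨algebraMap k R c, ε0.commutes c⟩).eq_of_le
          y.2.ne_top fun r hr => ?_).symm
        obtain ⟨a, rfl⟩ := Ideal.Quotient.mk_surjective r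
        have hm : a ∈ m := hker.le hr
        refine y.2.mem_of_pow_mem 2 ?_
        rw [← map_pow, Ideal.Quotient.eq_zero_iff_mem.2 (Ideal.pow_mem_pow hm 2)]
        exact y.asIdeal.zero_mem
      exact PrimeSpectrum.ext ((hx _).trans (hx x).symm)⟩⟩
    have hsq : IsPullback i f (pullback.snd f T.hom) (Spec.map (CommRingCat.ofHom ε0.toRingHom)) := by
      refine IsPullback.of_right (h₁₂ := pullback.fst f T.hom) (v₁₃ := f) (h₂₂ := T.hom) ?_ hig
        (IsPullback.of_hasPullback f T.hom)
      rw [hi, show Spec.map (CommRingCat.ofHom ε0.toRingHom) ≫ T.hom = 𝟙 _ from Over.w sec]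
      exact IsPullback.id_horiz f
    haveI : Surjective i := MorphismProperty.of_isPullback (P := @Surjective) hsq.flip inferInstance
    exact i.surjective
  let τ : (Scheme.Modules.pullback i).obj M ≅ Coh.structureModule X :=
    ((Scheme.Modules.pullbackComp z (PicF.XTmap f sec)).app M).symm ≪≫
      (Scheme.Modules.pullback z).mapIso τ₀ ≪≫ PicLoc.pullbackStructureIso z
  show d ≤ _
  refine le_finrank_h1 ν hν hνm (IsPullback.of_hasPullback f T.hom) ε0 (fun t => by rw [hνv]; exact hε t)
    hi hig his M hM τ fun μ hμ => ?_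
  let D : Over (Spec (CommRingCat.of k)) := Over.mk (Spec.map (CommRingCat.ofHom (algebraMap k k[ε])))
  let δ : D ⟶ T := Over.homMk (Spec.map (CommRingCat.ofHom (dir ν μ hν hνm).toRingHom)) (by
    show Spec.map _ ≫ Spec.map _ = Spec.map _
    rw [← Spec.map_comp]
    exact congrArg Spec.map (CommRingCat.hom_ext (RingHom.ext fun c => (dir ν μ hν hνm).commutes c)))
  obtain ⟨τD⟩ := hμ (PicF.XT f D) (PicF.XTmap f δ) (pullback.snd f D.hom) (by
    refine IsPullback.of_right (h₁₂ := pullback.fst f T.hom) (v₁₃ := f) (h₂₂ := T.hom) ?_ (XTmap_snd f δ)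
      (IsPullback.of_hasPullback f T.hom)
    rw [XTmap_fst, show Spec.map (CommRingCat.ofHom (dir ν μ hν hνm).toRingHom) ≫ T.hom = D.hom from Over.w δ]
    exact IsPullback.of_hasPullback f D.hom)
  have h1 : δ ≫ u = Over.homMk D.hom ≫ e' := by
    refine Eq.trans ?_ (hP.natural T₀ D (Over.homMk D.hom) _ ⟨_, rfl, H11Ample.isInvertible_structureModule⟩)
    rw [← hcu, ← hP.natural T D δ cu.1 cu.2.1]
    refine congrArg (φ D) ?_
    rw [← hMc]
    exact (Quot.sound ⟨τD⟩).trans (Quot.sound ⟨(PicLoc.pullbackStructureIso _).symm⟩)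
  have h2 : Spec.map (ρ ≫ CommRingCat.ofHom (dir ν μ hν hνm).toRingHom) =
      Spec.map (ψ ≫ CommRingCat.ofHom (algebraMap k k[ε])) := by
    refine (cancel_mono (P.left.fromSpecStalk p)).1 ?_
    rw [Spec.map_comp, Spec.map_comp, Category.assoc, Category.assoc, hψ]
    exact congrArg CommaMorphism.left h1
  funext t
  have h3 := congr($(congrArg CommRingCat.Hom.hom (Spec.map_injective h2)) (mt t : O))
  change dir ν μ hν hνm (π (mt t : O)) = algebraMap k k[ε] (ψ.hom (mt t : O)) at h3
  rw [RingHom.mem_ker.1 (hker.ge (mt t).2), map_zero, show π (mt t : O) = ν (some t) from (hνv (some t)).symm] at h3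
  have h4 := congrArg TrivSqZeroExt.snd ((dirLin_some ν μ t).symm.trans h3)
  simpa using h4

end Groth.Agent.H25PicSm
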