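import Groth.Agent.H25PicSm.Sections
import Groth.Agent.H12Pic.PicCurve.SqZeroPic
import Groth.Agent.LeadBC.Basic
import Groth.Agent.H11Ample.Ample

/-!
# Transition cochains of an invertible module on a first order thickening
-/

set_option autoImplicit false
set_option linter.style.haveILetI false
set_option linter.unusedSectionVars false
set_option backward.isDefEq.respectTransparency false
set_option maxHeartbeats 2000000
universe u

open CategoryTheory CategoryTheory.Limits AlgebraicGeometry TopologicalSpace Opposite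

noncomputable section

namespace Groth.Agent.H25PicSm

open Groth.Agent.LeadFF Groth.Agent.H11Tilde Groth.Agent.H7Flat Groth.Agent.H7Flat.LineCocycle
open Groth.Agent.H12Pic.PicCurve.SqZeroPic (gen_inj res_rel isGen_smul isGen_app_iso iso_of_transition)

variable {k : Type u} [Field k] {X : Scheme.{u}} [X.Over (Spec (CommRingCat.of k))]
  {R : Type u} [CommRing R] [Algebra k R] {d : ℕ} (ν : Module.Basis (Option (Fin d)) k R)
  (hν : ν none = 1) (hνm : ∀ s t, ν (some s) * ν (some t) = 0)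
  (ε0 : R →ₐ[k] k) (hε : ∀ t, ε0 (ν (some t)) = 0)
  {XT : Scheme.{u}} {q : XT ⟶ X} {g : XT ⟶ Spec (CommRingCat.of R)}
  (hsq : IsPullback q g (X ↘ Spec (CommRingCat.of k)) (Spec.map (CommRingCat.ofHom (algebraMap k R))))

/-- The element `1 + Σ x_t ν_t`. -/
def lin {U : X.Opens} (x : Fin d → Γ(X, U)) : Γ(XT, q ⁻¹ᵁ U) :=
  1 + ∑ t, q.app U (x t) * scal g (q ⁻¹ᵁ U) (ν (some t))

theorem rr_self {Y : Scheme.{u}} {V : Y.Opens} (h : V ≤ V) (x : Γ(Y, V)) : rr h x = x := by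
  show Y.presheaf.map (homOfLE h).op x = x
  rw [show (homOfLE h).op = 𝟙 _ from rfl, CategoryTheory.Functor.map_id]
  rfl

include hν hsq

theorem sum_eq_lin {U : X.Opens} (a : Option (Fin d) → Γ(X, U)) (h : a none = 1) :
    ∑ t, q.app U (a t) * scal g (q ⁻¹ᵁ U) (ν t) = lin ν (q := q) (g := g) fun t => a (some t) := by
  rw [Fintype.sum_option, h, hν, map_one, map_one, _root_.one_mul]
  rfl

theorem lin_inj {U : X.Opens} (hU : IsAffineOpen U) {x y : Fin d → Γ(X, U)}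
    (h : lin ν (q := q) (g := g) x = lin ν (q := q) (g := g) y) : x = y := by
  have e : ∀ z : Fin d → Γ(X, U), coef hsq ν hU (lin ν (q := q) (g := g) z) = fun t => t.elim 1 z := fun z =>
    coef_eq hsq ν hU _ _ (sum_eq_lin ν hν hsq (fun t : Option (Fin d) => t.elim 1 z) rfl).symm
  funext t
  exact congrFun ((e x).symm.trans ((congrArg _ h).trans (e y))) (some t)

theorem res_lin {U V : X.Opens} (h : V ≤ U) (x : Fin d → Γ(X, U)) :
    XT.presheaf.map (homOfLE (q.preimage_mono h)).op (lin ν (q := q) (g := g) x) =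
      lin ν (q := q) (g := g) fun t => rr h (x t) := by
  rw [lin, lin, map_add, map_one, map_sum]
  congr 1
  exact Finset.sum_congr rfl fun s _ => by rw [map_mul, app_res hsq h, map_scal]

include hνm in
theorem lin_mul {U : X.Opens} (x y : Fin d → Γ(X, U)) :
    lin ν (q := q) (g := g) x * lin ν (q := q) (g := g) y = lin ν (q := q) (g := g) (x + y) := by
  have h0 : (∑ t, q.app U (x t) * scal g (q ⁻¹ᵁ U) (ν (some t))) *
      (∑ t, q.app U (y t) * scal g (q ⁻¹ᵁ U) (ν (some t))) = 0 := by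
    rw [Finset.sum_mul_sum]
    refine Finset.sum_eq_zero fun s _ => Finset.sum_eq_zero fun t _ => ?_
    rw [mul_mul_mul_comm, ← map_mul (scal g _), hνm, map_zero, mul_zero]
  have h1 : (∑ t, q.app U ((x + y) t) * scal g (q ⁻¹ᵁ U) (ν (some t))) =
      (∑ t, q.app U (x t) * scal g (q ⁻¹ᵁ U) (ν (some t))) +
        ∑ t, q.app U (y t) * scal g (q ⁻¹ᵁ U) (ν (some t)) := by
    rw [← Finset.sum_add_distrib]
    exact Finset.sum_congr rfl fun t _ => by rw [Pi.add_apply, map_add, _root_.add_mul]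
  rw [lin, lin, lin, h1, _root_.add_mul, _root_.mul_add, _root_.mul_add, h0]
  simp only [_root_.one_mul, _root_.mul_one, add_zero]
  abel

omit hν hsq in
theorem app_section {Y Z : Scheme.{u}} {i : Y ⟶ Z} {p : Z ⟶ Y} (h : i ≫ p = 𝟙 Y) (V : Y.Opens) :
    ∃ (e : i ⁻¹ᵁ (p ⁻¹ᵁ V) = V), ∀ z : Γ(Y, V), i.app (p ⁻¹ᵁ V) (p.app V z) = rr e.le z := by
  have e : i ⁻¹ᵁ (p ⁻¹ᵁ V) = V := by rw [← Scheme.Hom.comp_preimage, h]; rfl
  refine ⟨e, fun z => ?_⟩
  rw [← ConcreteCategory.comp_apply, Scheme.Hom.app_eq_appLE, Scheme.Hom.app_eq_appLE,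
    Scheme.Hom.appLE_comp_appLE]
  have key : ∀ (f : Y ⟶ Y), f = 𝟙 Y → ∀ (h' : i ⁻¹ᵁ (p ⁻¹ᵁ V) ≤ f ⁻¹ᵁ V),
      f.appLE V (i ⁻¹ᵁ (p ⁻¹ᵁ V)) h' z = rr e.le z := by
    rintro f rfl h'
    simp only [Scheme.Hom.appLE, Scheme.Hom.id_app, Category.id_comp]
  exact key _ h _

include hνm hε in
/-- An invertible module trivial on the closed fibre has additive transition cochains. -/
theorem exists_transitions [IsSeparated (X ↘ Spec (CommRingCat.of k))] [CompactSpace X] {i : X ⟶ XT}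
    (hi : i ≫ q = 𝟙 X) (hig : i ≫ g = (X ↘ Spec (CommRingCat.of k)) ≫ Spec.map (CommRingCat.ofHom ε0.toRingHom))
    (his : Function.Surjective i.base) (M : XT.Modules) (hM : PicF.IsInvertible M)
    (τ : (Scheme.Modules.pullback i).obj M ≅ Coh.structureModule X) :
    ∃ (ι : Type u) (U : ι → X.Opens) (_ : LeadBC.GoodCover U) (e : ∀ a, Γ(M, q ⁻¹ᵁ U a))
      (A : Fin d → LeadBC.Kp k U (Coh.structureModule X) 1),
      (∀ a, IsGen M (e a)) ∧
      (∀ (a b : ι) (T : X.Opens) (ha : T ≤ U a) (hb : T ≤ U b),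
        M.presheaf.map (homOfLE (q.preimage_mono hb)).op (e b) =
          lin ν (q := q) (g := g) (fun t => rr (show T ≤ H15Site.CechTop.cap U ![a, b] from
              le_iInf (Fin.forall_fin_two.2 ⟨ha, hb⟩)) (A t ![a, b] : Γ(X, H15Site.CechTop.cap U ![a, b]))) •
            M.presheaf.map (homOfLE (q.preimage_mono ha)).op (e a)) ∧
      ∀ t, LeadBC.dK k U (Coh.structureModule X) 1 (A t) = 0 := by
  classical
  have hloc : ∀ x : X, ∃ (U : X.Opens) (e : Γ(M, q ⁻¹ᵁ U)), x ∈ U ∧ IsAffineOpen U ∧ IsGen M e := fun x => by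
    obtain ⟨W, e, hx, he⟩ := H11Ample.exists_gen hM (i x)
    obtain ⟨U, hU, hxU, hUW⟩ := exists_isAffineOpen_mem_and_subset (U := i ⁻¹ᵁ W) (x := x) hx
    have hle : q ⁻¹ᵁ U ≤ W := fun y hy => by
      obtain ⟨x', rfl⟩ := his y
      have hx' : q (i x') = x' := by rw [← Scheme.Hom.comp_apply, hi]; rfl
      have hy' : x' ∈ U := hx' ▸ hy
      exact hUW hy'
    exact ⟨U, M.presheaf.map (homOfLE hle).op e, hxU, hU, he.res hle⟩
  choose U₀ e₀ hx₀ hU₀ he₀ using hloc
  obtain ⟨S, hS⟩ := isCompact_univ.elim_finite_subcover (fun x => (U₀ x : Set X)) (fun x => (U₀ x).isOpen)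
    fun x _ => Set.mem_iUnion.2 ⟨x, hx₀ x⟩
  let ι : Type u := {x : X // x ∈ S}
  let U : ι → X.Opens := fun a => U₀ a.1
  have hG : LeadBC.GoodCover U := ⟨LeadBC.isAffineOpen_cap_of_separated k fun a => hU₀ _, fun x _ => by
    obtain ⟨z, hz⟩ := Set.mem_iUnion.1 (hS (Set.mem_univ x))
    obtain ⟨hzS, hxz⟩ := Set.mem_iUnion.1 hz
    exact Opens.mem_iSup.2 ⟨⟨z, hzS⟩, hxz⟩⟩
  -- generators which are 1 on the closed fibre
  have hnorm : ∀ a : ι, ∃ e : Γ(M, q ⁻¹ᵁ U a), IsGen M e ∧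
      τ.hom.app (i ⁻¹ᵁ (q ⁻¹ᵁ U a)) (OmegaSh.pullSect i M (q ⁻¹ᵁ U a) e) = H11Ample.one _ := fun a => by
    obtain ⟨hV, hiq⟩ := app_section hi (U a)
    obtain ⟨c, hc⟩ := H11Ample.exists_coeff (H11Ample.isGen_one (i ⁻¹ᵁ (q ⁻¹ᵁ U a)))
      (τ.hom.app (i ⁻¹ᵁ (q ⁻¹ᵁ U a)) (OmegaSh.pullSect i M (q ⁻¹ᵁ U a) (e₀ a.1)))
    have hcu : IsUnit c := PowerRoot.isUnit_coeff (H11Ample.isGen_one _)
      (isGen_app_iso τ ((he₀ a.1).pullSect i)) hc
    obtain ⟨v, hv⟩ := (hcu.map (rr hV.ge)).exists_left_inv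
    have hvu : IsUnit v := isUnit_iff_exists.2 ⟨_, hv, (mul_comm _ _).trans hv⟩
    refine ⟨q.app (U a) v • e₀ a.1, isGen_smul (he₀ a.1) (hvu.map (q.app (U a)).hom), ?_⟩
    rw [OmegaSh.pullSect_smul, Scheme.Modules.Hom.app_smul, hc, smul_smul, hiq]
    have h1 := congrArg (rr hV.le) hv
    rw [map_mul, map_one, rr_rr] at h1
    rw [rr_self] at h1
    rw [h1, one_smul]
  choose e he hone using hnorm
  have hex : ∀ s : Fin 2 → ι, ∃ x : Fin d → Γ(X, H15Site.CechTop.cap U s),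
      M.presheaf.map (homOfLE (q.preimage_mono (iInf_le (fun l => U (s l)) 1))).op (e (s 1)) =
        lin ν (q := q) (g := g) x • M.presheaf.map (homOfLE (q.preimage_mono (iInf_le (fun l => U (s l)) 0))).op (e (s 0)) := by
    intro s
    set V := H15Site.CechTop.cap U s
    have hV := hG.affine 1 s
    have hgen0 := (he (s 0)).res (q.preimage_mono (iInf_le (fun l => U (s l)) 0 : V ≤ U (s 0)))
    obtain ⟨c, hc⟩ := H11Ample.exists_coeff hgen0
      (M.presheaf.map (homOfLE (q.preimage_mono (iInf_le (fun l => U (s l)) 1 : V ≤ U (s 1)))).op (e (s 1)))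
    obtain ⟨hVi, hiq⟩ := app_section hi V
    have hres : ∀ (a : ι) (h : V ≤ U a), τ.hom.app (i ⁻¹ᵁ (q ⁻¹ᵁ V))
        (OmegaSh.pullSect i M _ (M.presheaf.map (homOfLE (q.preimage_mono h)).op (e a))) = H11Ample.one _ :=
      fun a h => by
        rw [OmegaSh.pullSect_map, H11Tilde.app_map_apply, hone, H11Ample.one_res]
    have h1 : i.app (q ⁻¹ᵁ V) c = 1 := by
      refine gen_inj (H11Ample.isGen_one (i ⁻¹ᵁ (q ⁻¹ᵁ V))) ?_
      rw [one_smul]
      conv_rhs => rw [← hres (s 1) (iInf_le (fun l => U (s l)) 1), hc, OmegaSh.pullSect_smul,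
        Scheme.Modules.Hom.app_smul, hres (s 0) (iInf_le (fun l => U (s l)) 0)]
    have hsqi : IsPullback i (X ↘ Spec (CommRingCat.of k)) g (Spec.map (CommRingCat.ofHom ε0.toRingHom)) := by
      refine IsPullback.of_right (h₁₂ := q) (v₁₃ := X ↘ Spec (CommRingCat.of k))
        (h₂₂ := Spec.map (CommRingCat.ofHom (algebraMap k R))) ?_ hig hsq
      rw [hi, ← Spec.map_comp, ← CommRingCat.ofHom_comp, show ε0.toRingHom.comp (algebraMap k R) = RingHom.id k from
        RingHom.ext fun c => ε0.commutes c, CommRingCat.ofHom_id, Spec.map_id]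
      exact IsPullback.id_horiz _
    let a := coef hsq ν hV c
    have ha0 : a none = 1 := by
      have h2 := congrArg (i.app (q ⁻¹ᵁ V)) (coef_spec hsq ν hV c)
      rw [h1, map_sum, Fintype.sum_option, hν, map_one, _root_.mul_one, hiq,
        Finset.sum_eq_zero fun t _ => by rw [map_mul, app_scal hsqi, show ε0.toRingHom (ν (some t)) = 0 from hε t,
          map_zero, mul_zero], add_zero] at h2
      have h3 := congrArg (rr hVi.ge) h2
      rw [map_one, rr_rr] at h3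
      exact (h3.trans (rr_self _ _)).symm
    refine ⟨fun t => a (some t), hc.trans ?_⟩
    rw [← sum_eq_lin ν hν hsq a ha0, ← coef_spec hsq ν hV c]
  choose x hx using hex
  have hxT : ∀ (s : Fin 2 → ι) (T : X.Opens) (hT : T ≤ H15Site.CechTop.cap U s),
      M.presheaf.map (homOfLE (q.preimage_mono (hT.trans (iInf_le (fun l => U (s l)) 1)))).op (e (s 1)) =
        lin ν (q := q) (g := g) (fun t => rr hT (x s t)) •
          M.presheaf.map (homOfLE (q.preimage_mono (hT.trans (iInf_le (fun l => U (s l)) 0)))).op (e (s 0)) := by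
    intro s T hT
    have h1 := res_rel (q.preimage_mono hT) (hx s)
    rw [H10Coh.mres_mres, H10Coh.mres_mres] at h1
    rw [← res_lin ν hν hsq hT]
    exact h1
  refine ⟨ι, U, hG, e, fun t s => (x s t : Γ(X, H15Site.CechTop.cap U s)), he, fun a b T ha hb => ?_, fun t => ?_⟩
  · exact hxT ![a, b] T _
  funext s
  rw [LeadBC.dK_apply]
  set T := H15Site.CechTop.cap U s
  have hTV : ∀ j : Fin 3, T ≤ H15Site.CechTop.cap U (s ∘ j.succAbove) := fun j =>
    H15Site.CechTop.cap_comp_le U s j.succAbove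
  have e01 : M.presheaf.map (homOfLE (q.preimage_mono (iInf_le (fun l => U (s l)) 1 : T ≤ U (s 1)))).op (e (s 1)) =
      lin ν (q := q) (g := g) (fun t => rr (hTV 2) (x (s ∘ Fin.succAbove 2) t)) •
        M.presheaf.map (homOfLE (q.preimage_mono (iInf_le (fun l => U (s l)) 0 : T ≤ U (s 0)))).op (e (s 0)) :=
    hxT (s ∘ Fin.succAbove 2) T (hTV 2)
  have e12 : M.presheaf.map (homOfLE (q.preimage_mono (iInf_le (fun l => U (s l)) 2 : T ≤ U (s 2)))).op (e (s 2)) =
      lin ν (q := q) (g := g) (fun t => rr (hTV 0) (x (s ∘ Fin.succAbove 0) t)) •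
        M.presheaf.map (homOfLE (q.preimage_mono (iInf_le (fun l => U (s l)) 1 : T ≤ U (s 1)))).op (e (s 1)) :=
    hxT (s ∘ Fin.succAbove 0) T (hTV 0)
  have e02 : M.presheaf.map (homOfLE (q.preimage_mono (iInf_le (fun l => U (s l)) 2 : T ≤ U (s 2)))).op (e (s 2)) =
      lin ν (q := q) (g := g) (fun t => rr (hTV 1) (x (s ∘ Fin.succAbove 1) t)) •
        M.presheaf.map (homOfLE (q.preimage_mono (iInf_le (fun l => U (s l)) 0 : T ≤ U (s 0)))).op (e (s 0)) :=
    hxT (s ∘ Fin.succAbove 1) T (hTV 1)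
  rw [e01, smul_smul, lin_mul ν hν hνm hsq] at e12
  have h3 := congrFun (lin_inj ν hν hsq (hG.affine 2 s)
    (gen_inj ((he (s 0)).res (q.preimage_mono (iInf_le (fun l => U (s l)) 0 : T ≤ U (s 0)))) (e12.symm.trans e02))) t
  rw [Fin.sum_univ_three]
  show ((-1 : ℤ) ^ (0 : ℕ)) • (rr (hTV 0) (x (s ∘ Fin.succAbove 0) t) : Γ(X, T)) +
      ((-1 : ℤ) ^ (1 : ℕ)) • rr (hTV 1) (x (s ∘ Fin.succAbove 1) t) +
      ((-1 : ℤ) ^ (2 : ℕ)) • rr (hTV 2) (x (s ∘ Fin.succAbove 2) t) = 0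
  rw [← h3]
  simp

end Groth.Agent.H25PicSm
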